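import Cfsg.Agent.H720.HT.NVM24
import Cfsg.Agent.H45.Thin.Leech
import Cfsg.Agent.S1711
import Cfsg.Agent.CoOneType.CoOneE

/-!
# S4933, `p = 2`: the rows of `J4` and `Co1` (from `M24`), and of `M23`, `HS`, `McL`, `Co3`, `Co2` from `M22`
-/

set_option autoImplicit false

namespace Cfsg.Agent.H720.HT

open Subgroup Cfsg
open Cfsg.Agent.H483.HT (NV)
open Cfsg.Agent.H316.HT (Row)

universe u

theorem nv_j4 {S : Type u} [Group S] (h : Spor.IsoJ4 S) : NV 2 S := by
  obtain ⟨e⟩ := h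
  obtain ⟨f⟩ := Cfsg.Agent.S1711.result
  exact (nv_m24_model.congr f.symm).of_subgroup.congr e.symm

section CoOne

open Cfsg.Agent.SporadicA.Co0Mono Cfsg.Agent.SporadicA.Co1Simple
open Cfsg.Agent.CoOneType.CoOneE (pr pr_surjective pr_eq_iff)

/-- `M24 → Co1` -/
noncomputable def embOne : M24 →* Spor.Co1 := pr.comp permCo0

theorem embOne_injective : Function.Injective embOne := by
  rw [injective_iff_map_eq_one]
  intro σ h
  have h1 : pr (permCo0 σ) = pr 1 := by rw [map_one]; exact h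
  rcases (pr_eq_iff _ _).1 h1 with h2 | h2
  · exact perm_eq_one (d := 0) (by rw [← h2, signCo0_zero, mul_one])
  · apply perm_eq_one (d := allOne)
    calc signCo0 allOne * permCo0 σ =
        (permCo0 σ)⁻¹ * (permCo0 σ * signCo0 allOne) * permCo0 σ := by group
      _ = 1 := by rw [← h2]; group

theorem nv_co1 {S : Type u} [Group S] (h : Spor.IsoCo1 S) : NV 2 S := by
  obtain ⟨e⟩ := h
  exact (nv_m24_model.of_injective embOne embOne_injective).congr e.symm

end CoOne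

/-! ## Overgroups of `M22` -/

theorem nv_m23_of (h : NV 2 ↥Spor.M22) {S : Type u} [Group S] (hS : Spor.IsoM23 S) : NV 2 S := by
  obtain ⟨e⟩ := hS
  exact (h.of_le (inf_le_left : Spor.M22 ≤ Spor.M23)).congr e.symm

theorem nv_hs_of (h : NV 2 ↥Spor.M22) {S : Type u} [Group S] (hS : Spor.IsoHS S) : NV 2 S := by
  obtain ⟨e⟩ := hS
  exact (h.of_injective _ Cfsg.Agent.H45.Thin.Leech.embH_injective).congr e.symm

theorem nv_mcl_model_of (h : NV 2 ↥Spor.M22) : NV 2 ↥Spor.McL :=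
  h.of_injective _ Cfsg.Agent.H45.Thin.Leech.embM_injective

theorem nv_mcl_of (h : NV 2 ↥Spor.M22) {S : Type u} [Group S] (hS : Spor.IsoMcL S) : NV 2 S := by
  obtain ⟨e⟩ := hS
  exact (nv_mcl_model_of h).congr e.symm

theorem nv_co3_of (h : NV 2 ↥Spor.M22) {S : Type u} [Group S] (hS : Spor.IsoCo3 S) : NV 2 S := by
  obtain ⟨e⟩ := hS
  have hle : Spor.McL ≤ Spor.Co3 := fun _ h => h.1
  exact ((nv_mcl_model_of h).of_le hle).congr e.symm

theorem nv_co2_of (h : NV 2 ↥Spor.M22) {S : Type u} [Group S] (hS : Spor.IsoCo2 S) : NV 2 S := by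
  obtain ⟨e⟩ := hS
  have hle : Spor.McL ≤ Spor.Co2 := fun _ h => ⟨h.1.1, h.2⟩
  exact ((nv_mcl_model_of h).of_le hle).congr e.symm

theorem row2_j4 {S : Type u} [Group S] (h : Spor.IsoJ4 S) : Row 2 S := row2_of_nv (nv_j4 h)

theorem row2_co1 {S : Type u} [Group S] (h : Spor.IsoCo1 S) : Row 2 S := row2_of_nv (nv_co1 h)

end Cfsg.Agent.H720.HT
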