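import Cfsg.Agent.H720.HT.Bridge
import Cfsg.Agent.H328.KSpor

/-!
# S4933, `p = 2`: the Fischer groups, the Harada-Norton group and the Baby Monster contain large symmetric groups
-/

set_option autoImplicit false

namespace Cfsg.Agent.H720.HT

open Subgroup Cfsg Cfsg.Spor Equiv
open Cfsg.Agent.H483.HT (NV)
open Cfsg.Agent.H316.HT (Row)
open Cfsg.Agent.H440.TwoGen
open Cfsg.Agent.H328.KSpor (exists_inj path_eq eq_of_comm_braid)

universe u

theorem nv_fi22 {S : Type u} [Group S] (h : Spor.IsoFi22 S) : NV 2 S := by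
  obtain ⟨e⟩ := h
  obtain ⟨φ, hφ⟩ := Cfsg.Agent.H328.KSpor.s8_fi22
  exact ((nv_perm le_rfl).of_injective φ hφ).congr e.symm

theorem nv_fi23 {S : Type u} [Group S] (h : Spor.IsoFi23 S) : NV 2 S := by
  obtain ⟨e⟩ := h
  obtain ⟨φ, hφ⟩ := Cfsg.Agent.H328.KSpor.s9_fi23
  exact ((nv_perm (by norm_num)).of_injective φ hφ).congr e.symm

theorem nv_fi24' {S : Type u} [Group S] (h : Spor.IsoFi24' S) : NV 2 S := by
  obtain ⟨e⟩ := h
  obtain ⟨φ, hφ⟩ := Cfsg.Agent.H328.KSpor.s11_fi24
  have hmem : ∀ x : alternatingGroup (Fin 11), φ x ∈ commutator Spor.Fi24 := by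
    intro x
    have h1 : (x : Perm (Fin 11)) ∈ commutator (Perm (Fin 11)) := by
      rw [alternatingGroup.commutator_perm_eq (by simp)]
      exact x.2
    have h2 : (commutator (Perm (Fin 11))).map φ ≤ commutator Spor.Fi24 := by
      rw [commutator_def, commutator_def, Subgroup.map_commutator]
      exact Subgroup.commutator_mono le_top le_top
    exact h2 (Subgroup.mem_map_of_mem φ h1)
  let ψ : alternatingGroup (Fin 11) →* Spor.Fi24' :=
    (φ.comp (alternatingGroup (Fin 11)).subtype).codRestrict (commutator Spor.Fi24) hmem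
  have hψ : Function.Injective ψ := by
    intro x y hxy
    have h1 : φ x = φ y := congrArg Subtype.val hxy
    exact Subtype.ext (hφ h1)
  exact ((nv_alt (by norm_num)).of_injective ψ hψ).congr e.symm

theorem nv_hn {S : Type u} [Group S] (h : Spor.IsoHN S) : NV 2 S := by
  obtain ⟨e⟩ := h
  have hs : IsSimpleGroup Cfsg.Spor.HN := Cfsg.Agent.HN.Main.simple_HN
  have hc : Nat.card Cfsg.Spor.HN = 273030912000000 := Cfsg.Agent.S1701.result.2
  have hfin : Finite Cfsg.Spor.HN := Nat.finite_of_card_ne_zero (by rw [hc]; norm_num)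
  obtain ⟨K, ⟨f⟩⟩ := Cfsg.Agent.HN.A12Group.exists_alternating
  have hK : NV 2 K := (nv_alt (by norm_num)).congr f.symm
  exact hK.of_subgroup.congr e.symm

/-- **Diagrams with an arm of length three**: path `pth 0, …, pth (n-1)`, centre `pth k`, arm `a, b, c`. -/
theorem exists_perm3 {α : Type*} [DecidableEq α] {edges : List (α × ℕ × α)} {extra : List (FreeGroup α)}
    {n : ℕ} (hn : 4 ≤ n) (pth : ℕ → α) (k : ℕ) (hkn : k < n) (a b c : α)
    (hnode : ∀ x : α, x ∈ coxNodes edges)
    (hbr : ∀ i < n - 1, coxLabel edges (pth i) (pth (i + 1)) = 3)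
    (hcm : ∀ i < n, ∀ j < n, i + 1 < j → coxLabel edges (pth i) (pth j) = 2)
    (hak : coxLabel edges a (pth k) = 3) (ha0 : coxLabel edges a (pth 0) = 2)
    (hba : coxLabel edges b a = 3) (hb0 : coxLabel edges b (pth 0) = 2)
    (hcb : coxLabel edges c b = 3) (hc0 : coxLabel edges c (pth 0) = 2)
    (hall : ∀ x : α, x = a ∨ x = b ∨ x = c ∨ ∃ i < n, x = pth i)
    (h2 : ¬ Nat.card (CoxPresented α edges extra) ∣ 2) :
    ∃ φ : Perm (Fin (n + 1)) →* CoxPresented α edges extra, Function.Injective φ := by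
  apply exists_inj hn (fun i => Cox.g edges extra (pth i)) (fun i _ => Cox.sq (hnode _))
    (fun i hi => Cox.braid (hnode _) (hnode _) (hbr i (by omega)))
    (fun i j hij hj => Cox.comm (hnode _) (hnode _) (hcm i (by omega) j hj hij))
  intro h01
  apply h2
  have hp := path_eq (extra := extra) pth hnode hbr hcm h01
  set t := Cox.g edges extra (pth 0) with ht
  have ht2 : t * t = 1 := Cox.sq (hnode _)
  have ha : Cox.g edges extra a = t := by
    apply eq_of_comm_braid (Cox.sq (hnode _)) ht2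
    · exact Cox.comm (hnode _) (hnode _) ha0
    · rw [← hp k hkn]
      exact Cox.braid (hnode _) (hnode _) hak
  have hb : Cox.g edges extra b = t := by
    apply eq_of_comm_braid (Cox.sq (hnode _)) ht2
    · exact Cox.comm (hnode _) (hnode _) hb0
    · rw [← ha]
      exact Cox.braid (hnode _) (hnode _) hba
  have hc : Cox.g edges extra c = t := by
    apply eq_of_comm_braid (Cox.sq (hnode _)) ht2
    · exact Cox.comm (hnode _) (hnode _) hc0
    · rw [← hb]
      exact Cox.braid (hnode _) (hnode _) hcb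
  have htop : Subgroup.zpowers t = ⊤ := by
    apply Cox.eq_top_of_forall
    intro x
    rcases hall x with rfl | rfl | rfl | ⟨i, hi, rfl⟩
    · rw [ha]; exact Subgroup.mem_zpowers t
    · rw [hb]; exact Subgroup.mem_zpowers t
    · rw [hc]; exact Subgroup.mem_zpowers t
    · rw [hp i hi]; exact Subgroup.mem_zpowers t
  rw [← Subgroup.card_top, ← htop, Nat.card_zpowers, orderOf_dvd_iff_pow_eq_one, pow_two, ht2]

/-- path of the Baby Monster -/
def pB (i : ℕ) : BabyMonster.Gen := [BabyMonster.Gen.t1, .t2, .t3, .t4, .t5, .t6, .t7, .t8].getD i .t1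

theorem s9_b : ∃ φ : Perm (Fin 9) →* Spor.BabyMonster, Function.Injective φ :=
  exists_perm3 (n := 8) (by norm_num) pB 4 (by norm_num) BabyMonster.Gen.t9 BabyMonster.Gen.t10
    BabyMonster.Gen.t11
    (by intro x; cases x <;> decide) (by decide) (by decide) (by decide) (by decide) (by decide) (by decide)
    (by decide) (by decide)
    (by intro x; cases x <;> first | exact Or.inl rfl | exact Or.inr (Or.inl rfl) |
      exact Or.inr (Or.inr (Or.inl rfl)) | exact Or.inr (Or.inr (Or.inr (by decide))))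
    (by rw [EvenType.CTwoCard.b (K := Spor.BabyMonster) ⟨MulEquiv.refl _⟩]; norm_num)

theorem nv_b {S : Type u} [Group S] (h : Spor.IsoB S) : NV 2 S := by
  obtain ⟨e⟩ := h
  obtain ⟨φ, hφ⟩ := s9_b
  exact ((nv_perm (by norm_num)).of_injective φ hφ).congr e.symm

theorem row2_fi22 {S : Type u} [Group S] (h : Spor.IsoFi22 S) : Row 2 S := row2_of_nv (nv_fi22 h)

theorem row2_fi23 {S : Type u} [Group S] (h : Spor.IsoFi23 S) : Row 2 S := row2_of_nv (nv_fi23 h)

theorem row2_fi24' {S : Type u} [Group S] (h : Spor.IsoFi24' S) : Row 2 S := row2_of_nv (nv_fi24' h)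

theorem row2_hn {S : Type u} [Group S] (h : Spor.IsoHN S) : Row 2 S := row2_of_nv (nv_hn h)

theorem row2_b {S : Type u} [Group S] (h : Spor.IsoB S) : Row 2 S := row2_of_nv (nv_b h)

end Cfsg.Agent.H720.HT
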