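import Cfsg.Agent.H720.HT.UTri
import Cfsg.Agent.S2134

/-!
# S4933, the row `(He, 2)`
-/

set_option autoImplicit false

namespace Cfsg.Agent.H720.HT

open Subgroup Cfsg
open Cfsg.Agent.H483.HT (NV)
open Cfsg.Agent.H316.HT (Row)

universe u

theorem nv_he {S : Type u} [Group S] (h : Spor.IsoHe S) : NV 2 S := by
  obtain ⟨e⟩ := h
  have hs : ((tv 0 1 (by decide) : SL5) : Matrix (Fin 5) (Fin 5) (ZMod 2)) = Matrix.transvection 0 1 1 := rfl
  obtain ⟨z, -, ⟨f⟩⟩ := Cfsg.Agent.S2134.result (tv 0 1 (by decide)) hs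
  exact ((nv_centralizer hs).congr f.symm).of_subgroup.congr e.symm

theorem row2_he {S : Type u} [Group S] (h : Spor.IsoHe S) : Row 2 S := row2_of_nv (nv_he h)

end Cfsg.Agent.H720.HT
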