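import Cfsg.Agent.H720.HT.NVChain
import Cfsg.Agent.SporadicStructure.M24El

/-!
# S4933, `p = 2`: a 2-subgroup of `M22` that is not metabelian; the rows of `M22`, `M23`, `HS`, `McL`, `Co3`, `Co2`
-/

set_option autoImplicit false
set_option maxRecDepth 100000

namespace Cfsg.Agent.H720.HT

open Subgroup Cfsg
open scoped commutatorElement
open Cfsg.Agent.H483.HT (NV)
open Cfsg.Agent.H316.HT (Row)
open Cfsg.Agent.SporadicA.GolayBase Cfsg.Agent.SporadicA.GolayPerm Cfsg.Agent.SporadicStructure.M24El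

universe u

/-- permutations preserving a chain of partitions in which every class splits into at most two classes -/
theorem levels' {α : Type*} (m : ℕ) (c : ℕ → α → ℕ) (h0 : ∀ x y, c 0 x = c 0 y) (hm : ∀ x y, c m x = c m y → x = y)
    (h2 : ∀ i < m, ∀ x y z, c i x = c i y → c i y = c i z →
      c (i + 1) x = c (i + 1) y ∨ c (i + 1) y = c (i + 1) z ∨ c (i + 1) x = c (i + 1) z)
    (s : Equiv.Perm α) (hs : ∀ i ≤ m, ∀ x y, c i x = c i y ↔ c i (s x) = c i (s y)) : s ^ 2 ^ m = 1 := by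
  have key : ∀ k ≤ m, ∀ x, c k ((s ^ 2 ^ k) x) = c k x := by
    intro k
    induction k with
    | zero => intro _ x; exact h0 _ _
    | succ k ih =>
      intro hk x
      have hpow : ∀ j : ℕ, ∀ x y, c (k + 1) x = c (k + 1) y ↔ c (k + 1) ((s ^ j) x) = c (k + 1) ((s ^ j) y) := by
        intro j
        induction j with
        | zero => intro x y; simp
        | succ j ihj =>
          intro x y
          rw [pow_succ, Equiv.Perm.mul_apply, Equiv.Perm.mul_apply, ← ihj, ← hs (k + 1) hk]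
      set t := s ^ 2 ^ k with ht
      have e : s ^ 2 ^ (k + 1) = t * t := by rw [ht, ← pow_add, pow_succ, mul_two]
      rw [e, Equiv.Perm.mul_apply]
      have a1 := ih (by omega) x
      have a2 := ih (by omega) (t x)
      rcases h2 k (by omega) x (t x) (t (t x)) a1.symm a2.symm with h | h | h
      · have := (hpow (2 ^ k) _ _).1 h
        rw [← ht] at this
        exact (h.trans this).symm
      · have := (hpow (2 ^ k) _ _).2 h
        exact (this.trans h).symm
      · exact h.symm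
  apply Equiv.ext
  intro x
  exact hm _ _ (key m le_rfl x)

/-- the group of all permutations preserving the levels -/
def levelGroup' {α : Type*} (m : ℕ) (c : ℕ → α → ℕ) : Subgroup (Equiv.Perm α) where
  carrier := {s | ∀ i ≤ m, ∀ x y, c i x = c i y ↔ c i (s x) = c i (s y)}
  one_mem' := by intro i _ x y; simp
  mul_mem' := by
    intro s t hs ht i hi x y
    rw [Equiv.Perm.mul_apply, Equiv.Perm.mul_apply, ht i hi, hs i hi]
  inv_mem' := by
    intro s hs i hi x y
    rw [hs i hi (s⁻¹ x) (s⁻¹ y)]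
    simp

theorem isPGroup_levelGroup' {α : Type*} (m : ℕ) (c : ℕ → α → ℕ) (h0 : ∀ x y, c 0 x = c 0 y)
    (hm : ∀ x y, c m x = c m y → x = y)
    (h2 : ∀ i < m, ∀ x y z, c i x = c i y → c i y = c i z →
      c (i + 1) x = c (i + 1) y ∨ c (i + 1) y = c (i + 1) z ∨ c (i + 1) x = c (i + 1) z) :
    IsPGroup 2 (levelGroup' m c) := by
  intro s
  exact ⟨m, Subtype.ext (levels' m c h0 hm h2 s.1 s.2)⟩

namespace M22

/-- the levels on the indices of the 24 points -/
def lt (i x : ℕ) : ℕ := ((([[0, 0, 0, 0, 0, 0, 0, 0, 0, 0, 0, 0, 0, 0, 0, 0, 0, 0, 0, 0, 0, 0, 0, 0],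
  [20, 0, 0, 20, 0, 0, 20, 0, 0, 0, 0, 20, 0, 0, 0, 0, 0, 20, 20, 0, 0, 20, 0, 20],
  [30, 0, 1, 30, 0, 1, 30, 0, 0, 1, 0, 20, 1, 0, 0, 1, 1, 20, 20, 1, 1, 20, 0, 30],
  [30, 0, 1, 31, 2, 3, 31, 2, 0, 3, 0, 20, 1, 0, 2, 3, 1, 20, 21, 3, 1, 21, 2, 30],
  [30, 0, 1, 31, 2, 3, 33, 4, 5, 6, 0, 20, 7, 5, 2, 3, 1, 21, 22, 6, 7, 23, 4, 32],
  [30, 0, 1, 31, 2, 3, 33, 4, 5, 6, 7, 20, 8, 9, 10, 11, 12, 21, 22, 13, 14, 23, 15, 32]] :
    List (List ℕ)).getD i []).getD x 0)

/-- the levels on the 24 points -/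
def lv (i : ℕ) (x : GolayPt) : ℕ := lt i (idx x)

theorem of_idx {P : GolayPt → Prop} (h : ∀ i < 24, P (pt i)) (x : GolayPt) : P x := by
  rw [← pt_idx x]
  exact h _ (idx_lt x)

theorem lv_pt {k : ℕ} (hk : k < 24) (i : ℕ) : lv i (pt k) = lt i k := by rw [lv, idx_pt hk]

theorem three : ∀ (i : Fin 5) (a b c : Fin 24), lt i a = lt i b → lt i b = lt i c →
    lt (i + 1 : ℕ) a = lt (i + 1 : ℕ) b ∨ lt (i + 1 : ℕ) b = lt (i + 1 : ℕ) c ∨
      lt (i + 1 : ℕ) a = lt (i + 1 : ℕ) c := by decide +kernel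

theorem isPGroup_L : IsPGroup 2 (levelGroup' 5 lv) := by
  apply isPGroup_levelGroup'
  · have h : ∀ a < 24, ∀ b < 24, lt 0 a = lt 0 b := by decide +kernel
    intro x y
    exact h _ (idx_lt x) _ (idx_lt y)
  · have h : ∀ a < 24, ∀ b < 24, lt 5 a = lt 5 b → a = b := by decide +kernel
    intro x y hxy
    rw [← pt_idx x, ← pt_idx y, h _ (idx_lt x) _ (idx_lt y) hxy]
  · intro i hi x y z h1 h2
    exact three ⟨i, hi⟩ ⟨_, idx_lt x⟩ ⟨_, idx_lt y⟩ ⟨_, idx_lt z⟩ h1 h2

/-- the subgroup of `M24` -/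
def K : Subgroup M24 := Spor.M22.subgroupOf M24

def pA : ℕ := 975305357582135652269036108487285248
def pA' : ℕ := 958685024556064125453956773425916384
def pB : ℕ := 962729987180662188030303984902429056
def pB' : ℕ := 958843885424581757829803913366419040
def pC : ℕ := 974426638897693329036002775183598848
def pC' : ℕ := 961433774830722603218569588657835424
def pD : ℕ := 962726303304378368239433925778323072
def pD' : ℕ := 962726303304378368239433925778323072

theorem mem_K {P : ℕ} (hP : ok P = true) (h1 : papp P 23 = 23) (h2 : papp P 0 = 0) : el P ∈ K := by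
  rw [K, mem_subgroupOf]
  refine ⟨⟨(el P).2, ?_⟩, ?_⟩
  · show (el P : Equiv.Perm GolayPt) none = none
    rw [coe_el hP, permOf_apply, show idx none = 23 from rfl, h1]
    rfl
  · show (el P : Equiv.Perm GolayPt) (some 0) = some 0
    rw [coe_el hP, permOf_apply, show idx (some 0) = 0 from rfl, h2]
    rfl

theorem mem_L {P : ℕ} (hP : ok P = true) (h : ∀ i ≤ 5, ∀ a < 24, ∀ b < 24, lt i a = lt i b ↔
    lt i (papp P a) = lt i (papp P b)) : (el P : Equiv.Perm GolayPt) ∈ levelGroup' 5 lv := by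
  intro i hi x y
  show lt i (idx x) = lt i (idx y) ↔ lt i (idx ((el P : Equiv.Perm GolayPt) x)) =
    lt i (idx ((el P : Equiv.Perm GolayPt) y))
  rw [coe_el hP, idx_permOf, idx_permOf]
  exact h i hi _ (idx_lt x) _ (idx_lt y)

theorem okA : ok pA = true := by decide +kernel
theorem okA' : ok pA' = true := by decide +kernel
theorem okB : ok pB = true := by decide +kernel
theorem okB' : ok pB' = true := by decide +kernel
theorem okC : ok pC = true := by decide +kernel
theorem okC' : ok pC' = true := by decide +kernel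
theorem okD : ok pD = true := by decide +kernel
theorem okD' : ok pD' = true := by decide +kernel

theorem inv_el {P Q : ℕ} (hP : ok P = true) (hQ : ok Q = true) (h : pcomp P Q = idP) : (el P)⁻¹ = el Q := by
  apply inv_eq_of_mul_eq_one_right
  rw [← el_pcomp hP hQ, h, el_idP]

/-- packed commutators -/
def W1 : ℕ := pcomp (pcomp (pcomp pA pB) pA') pB'
def W2 : ℕ := pcomp (pcomp (pcomp pC pD) pC') pD'

theorem okW1 : ok W1 = true := ok_pcomp (ok_pcomp (ok_pcomp okA okB) okA') okB'
theorem okW2 : ok W2 = true := ok_pcomp (ok_pcomp (ok_pcomp okC okD) okC') okD'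

theorem elW1 : el W1 = ⁅el pA, el pB⁆ := by
  rw [commutatorElement_def, inv_el okA okA' (by decide +kernel), inv_el okB okB' (by decide +kernel), W1,
    el_pcomp (ok_pcomp (ok_pcomp okA okB) okA') okB', el_pcomp (ok_pcomp okA okB) okA', el_pcomp okA okB]

theorem elW2 : el W2 = ⁅el pC, el pD⁆ := by
  rw [commutatorElement_def, inv_el okC okC' (by decide +kernel), inv_el okD okD' (by decide +kernel), W2,
    el_pcomp (ok_pcomp (ok_pcomp okC okD) okC') okD', el_pcomp (ok_pcomp okC okD) okC', el_pcomp okC okD]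

theorem comm_ne : ⁅⁅el pA, el pB⁆, ⁅el pC, el pD⁆⁆ ≠ 1 := by
  intro h
  rw [commutatorElement_eq_one_iff_mul_comm, ← elW1, ← elW2, ← el_pcomp okW1 okW2, ← el_pcomp okW2 okW1] at h
  have h1 := idx_el_smul (ok_pcomp okW1 okW2) (pt 1)
  have h2 := idx_el_smul (ok_pcomp okW2 okW1) (pt 1)
  rw [h, h2, idx_pt (by norm_num)] at h1
  revert h1
  decide +kernel

theorem nv_K : NV 2 K := by
  have hA : el pA ∈ K := mem_K okA (by decide +kernel) (by decide +kernel)
  have hB : el pB ∈ K := mem_K okB (by decide +kernel) (by decide +kernel)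
  have hC : el pC ∈ K := mem_K okC (by decide +kernel) (by decide +kernel)
  have hD : el pD ∈ K := mem_K okD (by decide +kernel) (by decide +kernel)
  have lA := mem_L okA (by decide +kernel)
  have lB := mem_L okB (by decide +kernel)
  have lC := mem_L okC (by decide +kernel)
  have lD := mem_L okD (by decide +kernel)
  let f : K →* Equiv.Perm GolayPt := M24.subtype.comp K.subtype
  have hf : Function.Injective f := M24.subtype_injective.comp K.subtype_injective
  refine ⟨(levelGroup' 5 lv).comap f, isPGroup_L.comap_of_injective f hf,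
    ⟨_, hA⟩, lA, ⟨_, hB⟩, lB, ⟨_, hC⟩, lC, ⟨_, hD⟩, lD, ?_⟩
  intro h
  have h1 := congrArg K.subtype h
  simp only [map_commutatorElement, map_one, Subgroup.subtype_apply] at h1
  exact comm_ne h1

end M22

theorem nv_m22_model : NV 2 ↥Spor.M22 :=
  M22.nv_K.congr (subgroupOfEquivOfLe (fun _ hg => Cfsg.Agent.H45.Thin.Leech.le_M24 hg))

theorem nv_m22 {S : Type u} [Group S] (h : Spor.IsoM22 S) : NV 2 S := by
  obtain ⟨e⟩ := h
  exact nv_m22_model.congr e.symm

theorem nv_m23 {S : Type u} [Group S] (h : Spor.IsoM23 S) : NV 2 S := nv_m23_of nv_m22_model h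
theorem nv_hs {S : Type u} [Group S] (h : Spor.IsoHS S) : NV 2 S := nv_hs_of nv_m22_model h
theorem nv_mcl {S : Type u} [Group S] (h : Spor.IsoMcL S) : NV 2 S := nv_mcl_of nv_m22_model h
theorem nv_co3 {S : Type u} [Group S] (h : Spor.IsoCo3 S) : NV 2 S := nv_co3_of nv_m22_model h
theorem nv_co2 {S : Type u} [Group S] (h : Spor.IsoCo2 S) : NV 2 S := nv_co2_of nv_m22_model h

theorem row2_m22 {S : Type u} [Group S] (h : Spor.IsoM22 S) : Row 2 S := row2_of_nv (nv_m22 h)
theorem row2_m23 {S : Type u} [Group S] (h : Spor.IsoM23 S) : Row 2 S := row2_of_nv (nv_m23 h)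
theorem row2_hs {S : Type u} [Group S] (h : Spor.IsoHS S) : Row 2 S := row2_of_nv (nv_hs h)
theorem row2_mcl {S : Type u} [Group S] (h : Spor.IsoMcL S) : Row 2 S := row2_of_nv (nv_mcl h)
theorem row2_co3 {S : Type u} [Group S] (h : Spor.IsoCo3 S) : Row 2 S := row2_of_nv (nv_co3 h)
theorem row2_co2 {S : Type u} [Group S] (h : Spor.IsoCo2 S) : Row 2 S := row2_of_nv (nv_co2 h)

end Cfsg.Agent.H720.HT
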