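import Cfsg.Agent.H720.HT.Bridge

/-!
# S4933, `p = 2`: unitriangular matrices of degree five over the field with two elements
-/

set_option autoImplicit false

namespace Cfsg.Agent.H720.HT

open Subgroup
open scoped commutatorElement
open Cfsg.Agent.H483.HT (NV)

/-- position of a basis vector in the flag of the transvection `0 1` -/
def pos5 : Fin 5 → ℕ := ![0, 4, 1, 2, 3]

abbrev SL5 := Matrix.SpecialLinearGroup (Fin 5) (ZMod 2)

/-- strictly upper triangular in the order `0 2 3 4 1`, all entries at distance at least `k` -/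
def Low (k : ℕ) (n : Matrix (Fin 5) (Fin 5) (ZMod 2)) : Prop := ∀ i j, pos5 j < pos5 i + k → n i j = 0

theorem low_mul {k l : ℕ} {m n : Matrix (Fin 5) (Fin 5) (ZMod 2)} (hm : Low k m) (hn : Low l n) :
    Low (k + l) (m * n) := by
  intro i j hij
  rw [Matrix.mul_apply]
  apply Finset.sum_eq_zero
  intro t _
  by_cases h : pos5 t < pos5 i + k
  · rw [hm i t h, zero_mul]
  · rw [hn t j (by omega), mul_zero]

theorem low_mono {k l : ℕ} (h : k ≤ l) {m : Matrix (Fin 5) (Fin 5) (ZMod 2)} (hm : Low l m) : Low k m :=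
  fun i j hij => hm i j (by omega)

theorem low_five {m : Matrix (Fin 5) (Fin 5) (ZMod 2)} (hm : Low 5 m) : m = 0 := by
  ext i j
  apply hm i j
  have : ∀ t : Fin 5, pos5 t < 5 := by decide
  have := this j
  omega

theorem low_add {k : ℕ} {m n : Matrix (Fin 5) (Fin 5) (ZMod 2)} (hm : Low k m) (hn : Low k n) :
    Low k (m + n) := by
  intro i j hij
  rw [Matrix.add_apply, hm i j hij, hn i j hij, add_zero]

/-- the unitriangular group -/
def UT : Subgroup SL5 where
  carrier := {g | Low 1 (g.1 - 1)}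
  one_mem' := by
    show Low 1 ((1 : Matrix (Fin 5) (Fin 5) (ZMod 2)) - 1)
    rw [sub_self]
    intro i j _
    rfl
  mul_mem' := by
    intro g h hg hh
    show Low 1 (g.1 * h.1 - 1)
    have e : g.1 * h.1 - 1 = (g.1 - 1) * (h.1 - 1) + ((g.1 - 1) + (h.1 - 1)) := by noncomm_ring
    rw [e]
    exact low_add (low_mono (by norm_num) (low_mul hg hh)) (low_add hg hh)
  inv_mem' := by
    intro g hg
    have hfin : IsOfFinOrder g := isOfFinOrder_of_finite g
    obtain ⟨n, hn⟩ : ∃ n : ℕ, g⁻¹ = g ^ n := by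
      obtain ⟨n, -, hn⟩ := (hfin.mem_powers_iff_mem_range_orderOf (x := g) (y := g⁻¹)).1
        (hfin.mem_powers_iff_mem_zpowers.2 ⟨-1, by simp⟩) |> Finset.mem_image.1
      exact ⟨n, hn.symm⟩
    rw [hn]
    have key : ∀ k : ℕ, Low 1 ((g ^ k).1 - 1) := by
      intro k
      induction k with
      | zero =>
        rw [pow_zero]
        show Low 1 ((1 : Matrix (Fin 5) (Fin 5) (ZMod 2)) - 1)
        rw [sub_self]
        intro i j _
        rfl
      | succ k ih =>
        rw [pow_succ]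
        show Low 1 ((g ^ k).1 * g.1 - 1)
        have e : (g ^ k).1 * g.1 - 1 = ((g ^ k).1 - 1) * (g.1 - 1) + (((g ^ k).1 - 1) + (g.1 - 1)) := by
          noncomm_ring
        rw [e]
        exact low_add (low_mono (by norm_num) (low_mul ih hg)) (low_add ih hg)
    exact key n

theorem low_pow {n : Matrix (Fin 5) (Fin 5) (ZMod 2)} (hn : Low 1 n) : Low 5 (n ^ 5) := by
  have e : n ^ 5 = n * n * n * n * n := by noncomm_ring
  rw [e]
  exact low_mul (low_mul (low_mul (low_mul hn hn) hn) hn) hn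

theorem isPGroup_UT : IsPGroup 2 UT := by
  rintro ⟨g, hg⟩
  refine ⟨3, Subtype.ext (Subtype.ext ?_)⟩
  show (g ^ 2 ^ 3).1 = 1
  have h1 : (g ^ 2 ^ 3).1 = g.1 ^ 2 ^ 3 := rfl
  rw [h1]
  have e : g.1 = 1 + (g.1 - 1) := by abel
  rw [e, add_pow_char_pow_of_commute 2 3 (Commute.one_left (g.1 - 1)), one_pow]
  have h2 : (g.1 - 1) ^ 2 ^ 3 = 0 := by
    have h3 : Low 5 ((g.1 - 1) ^ 5) := low_pow hg
    rw [show 2 ^ 3 = 5 + 3 from rfl, pow_add, low_five h3, zero_mul]
  rw [h2, add_zero]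

/-- transvections -/
def tv (i j : Fin 5) (h : i ≠ j) : SL5 :=
  ⟨Matrix.transvection i j 1, Matrix.det_transvection_of_ne i j h 1⟩

theorem low_tv (i j : Fin 5) (h : i ≠ j) (hp : pos5 i < pos5 j) : tv i j h ∈ UT := by
  show Low 1 (Matrix.transvection i j 1 - 1)
  intro a b hab
  simp only [Matrix.transvection, add_sub_cancel_left]
  rw [Matrix.single_apply, if_neg]
  rintro ⟨rfl, rfl⟩
  omega

theorem comm_low {s : SL5} (hs : (s : Matrix (Fin 5) (Fin 5) (ZMod 2)) = Matrix.transvection 0 1 1) {g : SL5}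
    (hg : g ∈ UT) : g ∈ centralizer ({s} : Set SL5) := by
  rw [mem_centralizer_singleton_iff]
  apply Subtype.ext
  show g.1 * s.1 = s.1 * g.1
  have e : s.1 = 1 + Matrix.single 0 1 1 := hs
  have hl : Low 4 (Matrix.single 0 1 (1 : ZMod 2)) := by
    intro a b hab
    rw [Matrix.single_apply, if_neg]
    rintro ⟨rfl, rfl⟩
    revert hab
    decide
  have h1 : (g.1 - 1) * Matrix.single 0 1 (1 : ZMod 2) = 0 := low_five (low_mono (by norm_num) (low_mul hg hl))
  have h2 : Matrix.single 0 1 (1 : ZMod 2) * (g.1 - 1) = 0 := low_five (low_mono (by norm_num) (low_mul hl hg))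
  rw [e, mul_add, add_mul, mul_one, one_mul]
  rw [sub_mul, one_mul, sub_eq_zero] at h1
  rw [mul_sub, mul_one, sub_eq_zero] at h2
  rw [h1, h2]

theorem comm_ne' (a b c d : SL5) (ha : a = tv 0 2 (by decide)) (hb : b = tv 2 3 (by decide))
    (hc : c = tv 3 4 (by decide)) (hd : d = tv 4 1 (by decide)) : ⁅⁅a, b⁆, ⁅c, d⁆⁆ ≠ 1 := by
  intro h3
  have h4 := commutatorElement_eq_one_iff_mul_comm.1 h3
  simp only [commutatorElement_def] at h4
  have ia : a⁻¹ = a := inv_eq_of_mul_eq_one_left (by rw [ha]; decide +kernel)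
  have ib : b⁻¹ = b := inv_eq_of_mul_eq_one_left (by rw [hb]; decide +kernel)
  have ic : c⁻¹ = c := inv_eq_of_mul_eq_one_left (by rw [hc]; decide +kernel)
  have id : d⁻¹ = d := inv_eq_of_mul_eq_one_left (by rw [hd]; decide +kernel)
  rw [ia, ib, ic, id, ha, hb, hc, hd] at h4
  revert h4
  decide +kernel

theorem comm_ne : ⁅⁅tv 0 2 (by decide), tv 2 3 (by decide)⁆, ⁅tv 3 4 (by decide), tv 4 1 (by decide)⁆⁆ ≠ 1 :=
  comm_ne' _ _ _ _ rfl rfl rfl rfl

theorem nv_centralizer {s : SL5} (hs : (s : Matrix (Fin 5) (Fin 5) (ZMod 2)) = Matrix.transvection 0 1 1) :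
    NV 2 (centralizer ({s} : Set SL5)) := by
  refine ⟨UT.subgroupOf (centralizer ({s} : Set SL5)), isPGroup_UT.comap_subtype, ?_⟩
  have ha : tv 0 2 (by decide) ∈ UT := low_tv _ _ _ (by decide)
  have hb : tv 2 3 (by decide) ∈ UT := low_tv _ _ _ (by decide)
  have hc : tv 3 4 (by decide) ∈ UT := low_tv _ _ _ (by decide)
  have hd : tv 4 1 (by decide) ∈ UT := low_tv _ _ _ (by decide)
  refine ⟨⟨_, comm_low hs ha⟩, ha, ⟨_, comm_low hs hb⟩, hb, ⟨_, comm_low hs hc⟩, hc, ⟨_, comm_low hs hd⟩, hd, ?_⟩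
  intro h
  have h1 := congrArg (centralizer ({s} : Set SL5)).subtype h
  simp only [map_commutatorElement, map_one, Subgroup.subtype_apply] at h1
  exact comm_ne h1

end Cfsg.Agent.H720.HT
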